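import Cfsg.Prelude.Def_KGroupFacts
import Cfsg.Agent.Suzuki.Sylow
import Cfsg.Agent.Suzuki.LieModel

/-!
# The outer automorphism group of `Sz(q)` is the Galois group of the field
-/

set_option autoImplicit false
set_option linter.style.haveILetI false
set_option linter.unusedSectionVars false

namespace Cfsg.Agent.SuzukiAut

open MulAction Cfsg.Agent.Suzuki

variable {F : Type*} [Field F] [Fintype F] {m : ℕ} [hS : SuzukiField F m]
include hS

lemma th_comm (σ : F ≃+* F) (x : F) : th F m (σ x) = σ (th F m x) := by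
  rw [th_apply, th_apply, map_pow]

lemma nu_surjective (y : F) (hy : y ≠ 0) : ∃ l : Fˣ, th F m l ^ 2 * (l : F) ^ 2 = y := by
  obtain ⟨k, hk⟩ : ∃ k : F, th F m k * k = y := by
    have hinj : Function.Injective (fun k : F => th F m k * k) := by
      intro a b h
      simp only at h
      rcases eq_or_ne b 0 with rfl | hb
      · rw [map_zero, zero_mul, mul_eq_zero, map_eq_zero] at h
        exact h.elim id id
      · refine (div_eq_one_iff_eq hb).1 (th_mul_self_eq_one (m := m) ?_)
        rw [map_div₀, div_mul_div_comm, h, div_self (mul_ne_zero ((map_ne_zero _).2 hb) hb)]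
    exact (Finite.injective_iff_surjective.1 hinj) y
  obtain ⟨l, hl⟩ := sq_surjective (m := m) k
  have hl' : l ^ 2 = k := hl
  have hl0 : l ≠ 0 := by
    rintro rfl
    rw [← hl'] at hk
    exact hy (by simpa using hk.symm)
  exact ⟨Units.mk0 l hl0, by rw [Units.val_mk0, ← map_pow, hl', hk]⟩

lemma sq_units_surjective (y : F) (hy : y ≠ 0) : ∃ l : Fˣ, (l : F) ^ 2 = y := by
  obtain ⟨k, hk⟩ := sq_surjective (m := m) y
  have hk' : k ^ 2 = y := hk
  exact ⟨Units.mk0 k (by rintro rfl; exact hy (by simpa using hk'.symm)), hk'⟩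

/-! ### Field automorphisms -/

/-- Applying a field automorphism to the entries. -/
noncomputable def slField (σ : F ≃+* F) :
    Matrix.SpecialLinearGroup (Fin 4) F →* Matrix.SpecialLinearGroup (Fin 4) F :=
  Matrix.SpecialLinearGroup.map σ.toRingHom

lemma slField_gT (σ : F ≃+* F) (a b : F) :
    slField σ (gT a b : Cfsg.Sz F m).1 = (gT (σ a) (σ b) : Cfsg.Sz F m).1 := by
  apply Subtype.ext
  show (matT (th F m) a b).map σ = matT (th F m) (σ a) (σ b)
  ext i j
  fin_cases i <;> fin_cases j <;> simp [matT, ovf, th_comm]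

lemma slField_gD (σ : F ≃+* F) (l : Fˣ) :
    slField σ (gD l : Cfsg.Sz F m).1 =
      (gD (Units.map σ.toRingHom.toMonoidHom l) : Cfsg.Sz F m).1 := by
  apply Subtype.ext
  show (matD (th F m) (l : F)).map σ = matD (th F m) (σ (l : F))
  ext i j
  fin_cases i <;> fin_cases j <;> simp [matD, th_comm]

lemma slField_gW (σ : F ≃+* F) :
    slField σ (gW F m).1 = (gW F m).1 := by
  apply Subtype.ext
  show (suzukiForm F).map σ = suzukiForm F
  ext i j
  fin_cases i <;> fin_cases j <;> simp [suzukiForm]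

lemma slField_mem (σ : F ≃+* F) (g : Cfsg.Sz F m) :
    slField σ g.1 ∈ Cfsg.Sz F m := by
  induction g using sz_induction with
  | hT a b => rw [slField_gT]; exact SetLike.coe_mem _
  | hD l => rw [slField_gD]; exact SetLike.coe_mem _
  | hW => rw [slField_gW]; exact SetLike.coe_mem _
  | hmul g h hg hh => rw [Subgroup.coe_mul, map_mul]; exact mul_mem hg hh

/-- The endomorphism of `Sz(q)` given by a field automorphism. -/
noncomputable def fieldHom (σ : F ≃+* F) : Cfsg.Sz F m →* Cfsg.Sz F m where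
  toFun g := ⟨slField σ g.1, slField_mem σ g⟩
  map_one' := Subtype.ext (map_one (slField σ))
  map_mul' g h := Subtype.ext (map_mul (slField σ) g.1 h.1)

lemma fieldHom_apply_apply (σ : F ≃+* F) (g : Cfsg.Sz F m) :
    fieldHom σ.symm (fieldHom σ g) = g := by
  apply sz_ext
  ext i j
  exact σ.symm_apply_apply _

/-- The automorphism of `Sz(q)` given by a field automorphism. -/
noncomputable def fieldAut (σ : F ≃+* F) : MulAut (Cfsg.Sz F m) :=
  { fieldHom σ with
    invFun := fieldHom σ.symm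
    left_inv := fieldHom_apply_apply σ
    right_inv := fun g => by
      have h := fieldHom_apply_apply σ.symm g
      rwa [RingEquiv.symm_symm] at h }

lemma fieldAut_gT (σ : F ≃+* F) (a b : F) :
    fieldAut σ (gT a b : Cfsg.Sz F m) = gT (σ a) (σ b) := Subtype.ext (slField_gT σ a b)

lemma fieldAut_gD (σ : F ≃+* F) (l : Fˣ) :
    fieldAut σ (gD l : Cfsg.Sz F m) = gD (Units.map σ.toRingHom.toMonoidHom l) :=
  Subtype.ext (slField_gD σ l)

lemma fieldAut_gW (σ : F ≃+* F) : fieldAut σ (gW F m) = gW F m := Subtype.ext (slField_gW σ)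

/-- The field automorphisms as a homomorphism. -/
noncomputable def fieldAutHom : (F ≃+* F) →* MulAut (Cfsg.Sz F m) :=
  MonoidHom.mk' fieldAut (fun σ τ => by
    apply MulEquiv.ext
    intro g
    apply sz_ext
    ext i j
    rfl)

/-! ### Every automorphism is inner times field -/

/-- An automorphism fixing the Borel subgroup pointwise is trivial. -/
lemma eq_one_of_fix_borel {α : MulAut (Cfsg.Sz F m)}
    (hT : ∀ a b, α (gT a b) = gT a b) (hD : ∀ l, α (gD l) = gD l) : α = 1 := by
  have hfix : ∀ g : Cfsg.Sz F m, g • oInf F m = oInf F m → α g = g := by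
    intro g hg
    obtain ⟨a, b, l, rfl⟩ := exists_gT_gD_of_fix hg
    rw [map_mul, hT, hD]
  have hw1 : α (gW F m) • oInf F m ≠ oInf F m := by
    intro h
    have h1 := hfix _ h
    rw [α.injective h1, gW_smul_oInf] at h
    exact oPt_ne_oInf 0 0 h
  -- `α (gW)` normalises the torus, so moves `∞` to `0`
  have hw : α (gW F m) • oInf F m = oPt F m 0 0 := by
    have hfixT : ∀ l, (gD l : Cfsg.Sz F m) • (α (gW F m) • oInf F m) =
        α (gW F m) • oInf F m := by
      intro l
      have h : gD l * gW F m = gW F m * gD l⁻¹ := by rw [gW_mul_gD, inv_inv]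
      have h' := congrArg α h
      rw [map_mul, map_mul, hD, hD] at h'
      rw [← mul_smul, h', mul_smul, gD_smul_oInf]
    rcases ovoid_cases (α (gW F m) • oInf F m) with h | ⟨x, y, h⟩
    · exact absurd h hw1
    · by_cases hxy : x = 0 ∧ y = 0
      · rw [h, hxy.1, hxy.2]
      · exfalso
        obtain ⟨z, hz0, hz1⟩ := exists_ne_zero_ne_one (F := F) (m := m)
        have h1 := hfixT (Units.mk0 z hz0)
        rw [h] at h1
        exact hz1 (congrArg Units.val (gD_fix_third (m := m) (by tauto) h1))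
  have horb : ∀ g : Cfsg.Sz F m, α g • oInf F m = g • oInf F m := by
    intro g
    rcases bruhat g with ⟨a, b, l, rfl⟩ | ⟨a, b, c, d, l, rfl⟩
    · rw [map_mul, hT, hD]
    · rw [map_mul, map_mul, map_mul, hT, hT, hD, mul_smul, mul_smul (gT a b) (α (gW F m)),
        gT_mul_gD_smul_oInf, hw, mul_smul, mul_smul (gT a b) (gW F m), gT_mul_gD_smul_oInf,
        gW_smul_oInf]
  apply MulEquiv.ext
  intro g
  haveI := sz_faithful (F := F) (m := m)
  refine eq_of_smul_eq_smul (α := suzukiOvoid F m) fun p => ?_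
  obtain ⟨h, rfl⟩ := exists_smul_oInf p
  calc α g • h • oInf F m = α g • α h • oInf F m := by rw [horb h]
    _ = (g * h) • oInf F m := by rw [← mul_smul, ← map_mul, horb]
    _ = g • h • oInf F m := mul_smul _ _ _

/-- Normal form modulo inner automorphisms: the unipotent radical and the torus are preserved. -/
lemma exists_normalised (α : MulAut (Cfsg.Sz F m)) :
    ∃ g : Cfsg.Sz F m, (∀ x ∈ unip F m, (MulAut.conj g * α) x ∈ unip F m) ∧
      ∀ l, ∃ k, (MulAut.conj g * α) (gD l) = gD k := by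
  classical
  haveI : Fact (Nat.Prime 2) := ⟨Nat.prime_two⟩
  -- first move the Sylow subgroup
  have hcard : Nat.card ((unipSylow F m).toSubgroup.map α.toMonoidHom) =
      2 ^ (Nat.card (Cfsg.Sz F m)).factorization 2 := by
    rw [← (unipSylow F m).card_eq_multiplicity]
    exact (Nat.card_congr ((unipSylow F m).toSubgroup.equivMapOfInjective _ α.injective).toEquiv).symm
  obtain ⟨g, hg⟩ := exists_smul_eq (Cfsg.Sz F m) (Sylow.ofCard _ hcard) (unipSylow F m)
  have hU : ∀ x ∈ unip F m, (MulAut.conj g * α) x ∈ unip F m := by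
    intro x hx
    have h1 : α x ∈ (unipSylow F m).toSubgroup.map α.toMonoidHom := ⟨x, hx, rfl⟩
    have h2 : MulAut.conj g (α x) ∈ (g • Sylow.ofCard _ hcard).toSubgroup := ⟨α x, h1, rfl⟩
    rwa [hg] at h2
  set β := MulAut.conj g * α with hβ
  have hsurjU : ∀ y ∈ unip F m, ∃ x ∈ unip F m, β x = y := by
    intro y hy
    have h : (unip F m).map β.toMonoidHom = unip F m := by
      refine Subgroup.eq_of_le_of_card_ge ?_ ?_
      · rintro _ ⟨x, hx, rfl⟩; exact hU x hx
      · rw [← Nat.card_congr ((unip F m).equivMapOfInjective _ β.injective).toEquiv]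
    rw [← h] at hy
    exact hy
  have hB : ∀ x : Cfsg.Sz F m, x • oInf F m = oInf F m → β x • oInf F m = oInf F m := by
    intro x hx
    rw [← mem_stabilizer_iff, ← normalizer_unip] at hx ⊢
    have hx' := Subgroup.mem_normalizer_iff.1 hx
    refine Subgroup.mem_normalizer_iff.2 fun y => ⟨fun hy => ?_, fun hy => ?_⟩
    · obtain ⟨z, hz, rfl⟩ := hsurjU y hy
      rw [← map_inv, ← map_mul, ← map_mul]
      exact hU _ ((hx' z).1 hz)
    · obtain ⟨z, hz, hz'⟩ := hsurjU _ hy
      have h3 : y = β (x⁻¹ * z * x) := by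
        rw [map_mul, map_mul, map_inv, hz']; group
      rw [h3]
      refine hU _ ((hx' _).2 ?_)
      rwa [show x * (x⁻¹ * z * x) * x⁻¹ = z by group]
  obtain ⟨l₀, hl₀⟩ := IsCyclic.exists_generator (α := Fˣ)
  obtain ⟨a, b, k, hk⟩ := exists_gT_gD_of_fix (hB (gD l₀) (gD_smul_oInf l₀))
  have hk1 : k ≠ 1 := by
    rintro rfl
    rw [gD_one, mul_one] at hk
    obtain ⟨x, hx, hx'⟩ := hsurjU _ ⟨a, b, rfl⟩
    rw [← hk] at hx'
    have h1 := β.injective hx'
    subst h1
    obtain ⟨c, d, hcd⟩ := hx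
    have h2 : l₀ = 1 := by
      have h3 : (gT c d : Cfsg.Sz F m) * gD 1 = gT 0 0 * gD l₀ := by
        rw [gD_one, mul_one, gT_zero, one_mul, ← hcd]
      exact (gT_mul_gD_inj h3).2.2.symm
    have h4 := orderOf_eq_card_of_forall_mem_zpowers hl₀
    rw [h2, orderOf_one, Nat.card_units, Nat.card_eq_fintype_card] at h4
    have := eight_le_card (F := F) (m := m); omega
  have hk2 : (k : F) ^ 2 + 1 ≠ 0 := fun h =>
    hk1 (Units.ext (sq_eq_one (m := m) (CharTwo.add_eq_zero.1 h)))
  have hk3 : th F m k ^ 2 * (k : F) ^ 2 + 1 ≠ 0 := fun h =>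
    hk1 (Units.ext (sq_eq_one (m := m) (th_mul_self_eq_one (m := m)
      (by rw [map_pow]; exact CharTwo.add_eq_zero.1 h))))
  set x := a / ((k : F) ^ 2 + 1) with hx
  set y := (b + th F m a * ((k : F) ^ 2 * x)) / (th F m k ^ 2 * (k : F) ^ 2 + 1) with hy
  have hxe : x * ((k : F) ^ 2 + 1) = a := div_mul_cancel₀ a hk2
  have hye : y * (th F m k ^ 2 * (k : F) ^ 2 + 1) = b + th F m a * ((k : F) ^ 2 * x) :=
    div_mul_cancel₀ _ hk3
  have hfix : (gT a b * gD k : Cfsg.Sz F m) • oPt F m x y = oPt F m x y := by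
    rw [mul_smul, gD_smul_oPt, gT_smul_oPt]
    congr 1
    · linear_combination ((k : F) ^ 2) * x * 0 + hxe.symm + (x * (k : F) ^ 2) * CharTwo.two_eq_zero (R := F) -
        (0 : F)
    · linear_combination hye.symm + (th F m k ^ 2 * (k : F) ^ 2 * y) * CharTwo.two_eq_zero (R := F)
  refine ⟨(gT x y)⁻¹ * g, fun z hz => ?_, fun l => ?_⟩
  · rw [map_mul, mul_assoc, ← hβ]
    show MulAut.conj (gT x y)⁻¹ (β z) ∈ unip F m
    rw [MulAut.conj_apply, inv_inv]
    exact mul_mem (mul_mem (inv_mem ⟨x, y, rfl⟩) (hU z hz)) ⟨x, y, rfl⟩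
  · obtain ⟨j, rfl⟩ := Subgroup.mem_zpowers_iff.1 (hl₀ l)
    have hfix2 : (β (gD l₀)) • oPt F m x y = oPt F m x y := by rw [hk]; exact hfix
    rw [show (gD (l₀ ^ j) : Cfsg.Sz F m) = gD l₀ ^ j from map_zpow (gDHom F m) l₀ j]
    obtain ⟨k', hk'⟩ : ∃ k', (MulAut.conj ((gT x y)⁻¹ * g) * α) (gD l₀) = gD k' := by
      rw [map_mul, mul_assoc, ← hβ]
      show ∃ k', MulAut.conj (gT x y)⁻¹ (β (gD l₀)) = gD k'
      rw [MulAut.conj_apply, inv_inv]
      refine eq_gD_of_fix ?_ ?_
      · rw [mul_smul, mul_smul, gT_smul_oInf, hB _ (gD_smul_oInf l₀), inv_smul_eq_iff, gT_smul_oInf]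
      · rw [mul_smul, mul_smul, gT_smul_oPt]
        simp only [zero_add, mul_zero, add_zero]
        rw [hfix2, inv_smul_eq_iff, gT_smul_oPt]
        simp
    exact ⟨k' ^ j, by rw [map_zpow, hk']; exact (map_zpow (gDHom F m) k' j).symm⟩

/-- Every automorphism of `Sz(q)` is an inner one times a field automorphism. -/
theorem exists_inner_mul_field (α : MulAut (Cfsg.Sz F m)) :
    ∃ (g : Cfsg.Sz F m) (σ : F ≃+* F), α = MulAut.conj g * fieldAut σ := by
  classical
  obtain ⟨g, hU, hD⟩ := exists_normalised α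
  set β := MulAut.conj g * α with hβ
  -- parameters
  choose τ hτ using hD
  have hTβ : ∀ a b, ∃ a' b', β (gT a b) = gT a' b' := fun a b => hU _ ⟨a, b, rfl⟩
  choose fa fb hf using hTβ
  have hfa_add : ∀ a b c d, fa (a + c) (b + d + th F m a * c) = fa a b + fa c d := by
    intro a b c d
    have h := congrArg β (gT_mul (m := m) a b c d)
    rw [map_mul, hf, hf, hf, gT_mul] at h
    exact (gT_inj h).1.symm
  have hτmul : ∀ k l, τ (k * l) = τ k * τ l := fun k l => gD_inj (m := m)
    (by rw [← hτ, ← gD_mul, map_mul, hτ, hτ, gD_mul])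
  have hconj : ∀ (l : Fˣ) a b, fa ((l : F) ^ 2 * a) (th F m l ^ 2 * (l : F) ^ 2 * b) =
      (τ l : F) ^ 2 * fa a b ∧ fb ((l : F) ^ 2 * a) (th F m l ^ 2 * (l : F) ^ 2 * b) =
      th F m (τ l) ^ 2 * (τ l : F) ^ 2 * fb a b := by
    intro l a b
    have h := congrArg β (gD_conj_gT (m := m) l a b)
    rw [map_mul, map_mul, hτ, hf, hf, gD_conj_gT] at h
    exact ⟨(gT_inj (mul_right_cancel h)).1.symm, (gT_inj (mul_right_cancel h)).2.symm⟩
  -- elements with `a = 0` are squares
  have hfa0 : ∀ b, fa 0 b = 0 := by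
    intro b
    have h := congrArg β (gT_sq (m := m) 1 0)
    rw [map_pow, hf, hf, gT_sq, map_one, one_mul] at h
    have h1 : fa 0 1 = 0 := (gT_inj h).1.symm
    rcases eq_or_ne b 0 with rfl | hb
    · have h0 := congrArg β (gT_zero (F := F) (m := m))
      rw [map_one, hf] at h0
      exact (gT_eq_one h0).1
    · obtain ⟨l, rfl⟩ := nu_surjective (m := m) b hb
      have h2 := (hconj l 0 1).1
      rw [mul_zero, mul_one, h1, mul_zero] at h2
      exact h2
  have hfa_indep : ∀ a b, fa a b = fa a 0 := by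
    intro a b
    have h := hfa_add a 0 0 b
    rw [mul_zero, add_zero, add_zero, zero_add, hfa0, add_zero] at h
    exact h
  have hAadd : ∀ a c, fa (a + c) 0 = fa a 0 + fa c 0 := fun a c => by
    rw [← hfa_add a 0 c 0, hfa_indep (a + c) (0 + 0 + th F m a * c)]
  have hA0 : fa 0 0 = 0 := hfa0 0
  set c₀ := fa 1 0 with hc₀def
  have hAsq : ∀ l : Fˣ, fa ((l : F) ^ 2) 0 = (τ l : F) ^ 2 * c₀ := fun l => by
    have h := (hconj l 1 0).1
    rwa [mul_one, mul_zero] at h
  have hinjA : ∀ a, fa a 0 = 0 → a = 0 := by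
    intro a ha
    by_contra hne
    have h1 := orderOf_gT (m := m) hne 0
    have h2 := orderOf_injective β.toMonoidHom β.injective (gT a 0)
    rw [h1] at h2
    change orderOf (β (gT a 0)) = 4 at h2
    rw [hf, ha] at h2
    have h3 : (gT 0 (fb a 0) : Cfsg.Sz F m) ^ 2 = 1 := by
      rw [gT_sq, map_zero, zero_mul, gT_zero]
    have := Nat.le_of_dvd two_pos (h2 ▸ orderOf_dvd_of_pow_eq_one h3)
    omega
  have hc₀ : c₀ ≠ 0 := fun h => one_ne_zero (hinjA 1 h)
  -- the field automorphism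
  let s : F → F := fun a => fa a 0 / c₀
  have hs_sq : ∀ l : Fˣ, s ((l : F) ^ 2) = (τ l : F) ^ 2 := fun l => by
    show fa _ 0 / c₀ = _
    rw [hAsq, mul_div_cancel_right₀ _ hc₀]
  have hs_one : s 1 = 1 := div_self hc₀
  have hs_zero : s 0 = 0 := by
    show fa 0 0 / c₀ = 0
    rw [hA0, zero_div]
  have hs_mul : ∀ a b, s (a * b) = s a * s b := by
    intro a b
    rcases eq_or_ne a 0 with rfl | ha
    · rw [zero_mul, hs_zero, zero_mul]
    rcases eq_or_ne b 0 with rfl | hb
    · rw [mul_zero, hs_zero, mul_zero]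
    obtain ⟨k, rfl⟩ := sq_units_surjective (m := m) a ha
    obtain ⟨l, rfl⟩ := sq_units_surjective (m := m) b hb
    rw [hs_sq, hs_sq, ← mul_pow, ← Units.val_mul, hs_sq, hτmul, Units.val_mul, mul_pow]
  let sH : F →+* F :=
    { toFun := s, map_one' := hs_one, map_mul' := hs_mul, map_zero' := hs_zero
      map_add' := fun a b => by
        show fa (a + b) 0 / c₀ = fa a 0 / c₀ + fa b 0 / c₀
        rw [hAadd, add_div] }
  let σ : F ≃+* F := RingEquiv.ofBijective sH
    (Finite.injective_iff_bijective.1 sH.injective)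
  have hτσ : ∀ l : Fˣ, (τ l : F) = σ l := by
    intro l
    refine sq_injective (m := m) (show (τ l : F) ^ 2 = σ (l : F) ^ 2 from ?_)
    rw [← map_pow]
    exact (hs_sq l).symm
  obtain ⟨n, hn⟩ := sq_units_surjective (m := m) c₀⁻¹ (inv_ne_zero hc₀)
  -- the normalised automorphism fixing the torus
  set γ := (fieldAut σ)⁻¹ * (MulAut.conj (gD n : Cfsg.Sz F m) * β) with hγ
  have hγD : ∀ l, γ (gD l) = gD l := by
    intro l
    show (fieldAut σ).symm (MulAut.conj (gD n) (β (gD l))) = gD l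
    rw [MulEquiv.symm_apply_eq, fieldAut_gD, hτ, MulAut.conj_apply, gD_mul, gD_inv, gD_mul,
      mul_inv_cancel_comm]
    congr 1
    exact Units.ext (hτσ l)
  have hγT : ∀ a b, ∃ b', γ (gT a b) = gT a b' := by
    intro a b
    refine ⟨σ.symm (th F m n ^ 2 * (n : F) ^ 2 * fb a b), ?_⟩
    show (fieldAut σ).symm (MulAut.conj (gD n) (β (gT a b))) = _
    rw [MulEquiv.symm_apply_eq, fieldAut_gT, RingEquiv.apply_symm_apply, hf, MulAut.conj_apply,
      gD_conj_gT, mul_inv_cancel_right]
    congr 1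
    rw [hn, hfa_indep, inv_mul_eq_div]
    rfl
  choose e he using hγT
  have he_conj : ∀ (l : Fˣ) a b, e ((l : F) ^ 2 * a) (th F m l ^ 2 * (l : F) ^ 2 * b) =
      th F m l ^ 2 * (l : F) ^ 2 * e a b := by
    intro l a b
    have h := congrArg γ (gD_conj_gT (m := m) l a b)
    rw [map_mul, map_mul, hγD, he, he, gD_conj_gT] at h
    exact (gT_inj (mul_right_cancel h)).2.symm
  have he_add : ∀ a b c d, e (a + c) (b + d + th F m a * c) = e a b + e c d + th F m a * c := by
    intro a b c d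
    have h := congrArg γ (gT_mul (m := m) a b c d)
    rw [map_mul, he, he, he, gT_mul] at h
    exact (gT_inj h).2.symm
  have he01 : e 0 1 = 1 := by
    have h := congrArg γ (gT_sq (m := m) 1 0)
    rw [map_pow, he, he, gT_sq, map_one, one_mul] at h
    exact (gT_inj h).2.symm
  have he0 : ∀ b, e 0 b = b := by
    intro b
    rcases eq_or_ne b 0 with rfl | hb
    · have h0 := congrArg γ (gT_zero (F := F) (m := m))
      rw [map_one, he] at h0
      exact (gT_eq_one h0).2
    · obtain ⟨l, rfl⟩ := nu_surjective (m := m) b hb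
      have h2 := he_conj l 0 1
      rw [mul_zero, mul_one, he01, mul_one] at h2
      exact h2
  have hsplit : ∀ a b, e a b = e a 0 + b := by
    intro a b
    have h := he_add a 0 0 b
    rw [mul_zero, add_zero, add_zero, zero_add, add_zero, he0] at h
    exact h
  have hc_add : ∀ a c, e (a + c) 0 = e a 0 + e c 0 := by
    intro a c
    have h := he_add a 0 c 0
    rw [zero_add, zero_add, hsplit] at h
    exact add_right_cancel h
  have hscal : ∀ a, a ≠ 0 → e a 0 = th F m a * a * e 1 0 := by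
    intro a ha
    obtain ⟨l, rfl⟩ := sq_units_surjective (m := m) a ha
    have h := he_conj l 1 0
    rwa [mul_one, mul_zero, ← map_pow] at h
  have he10 : e 1 0 = 0 := by
    obtain ⟨z, hz0, hz1⟩ := exists_ne_zero_ne_one (F := F) (m := m)
    have hz2 : z + 1 ≠ 0 := fun h => hz1 (CharTwo.add_eq_zero.1 h)
    have h := hc_add z 1
    rw [hscal z hz0, hscal _ hz2, map_add, map_one] at h
    have h' : (th F m z + z) * e 1 0 = 0 := by linear_combination h
    rcases mul_eq_zero.1 h' with h'' | h''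
    · rcases th_eq_self (m := m) (CharTwo.add_eq_zero.1 h'') with h0 | h1
      · exact absurd h0 hz0
      · exact absurd h1 hz1
    · exact h''
  have hγ1 : γ = 1 := by
    refine eq_one_of_fix_borel (fun a b => ?_) hγD
    rw [he, hsplit]
    rcases eq_or_ne a 0 with rfl | ha
    · rw [he0, zero_add]
    · rw [hscal a ha, he10, mul_zero, zero_add]
  rw [hγ, inv_mul_eq_one, hβ] at hγ1
  refine ⟨((gD n : Cfsg.Sz F m) * g)⁻¹, σ, ?_⟩
  rw [hγ1, ← mul_assoc (MulAut.conj (gD n : Cfsg.Sz F m)), ← map_mul, map_inv, inv_mul_cancel_left]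

/-- Only the trivial field automorphism is inner. -/
theorem fieldAut_inner {σ : F ≃+* F} {g : Cfsg.Sz F m}
    (h : fieldAut σ = MulAut.conj g) : σ = 1 := by
  have happ : ∀ x, g * x * g⁻¹ = fieldAut σ x := fun x => by rw [h, MulAut.conj_apply]
  have hnorm : ∀ a b, g * gT a b * g⁻¹ ∈ unip F m := fun a b => by
    rw [happ, fieldAut_gT]; exact ⟨_, _, rfl⟩
  have hg : g • oInf F m = oInf F m := by
    refine fix_of_unip (a := σ 1) (b := σ 0) (Or.inl (by simp)) ?_
    rw [← fieldAut_gT, ← happ, mul_smul, mul_smul, inv_smul_smul, gT_smul_oInf]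
  have hgW : g * gW F m = gW F m * g := by
    have := happ (gW F m)
    rw [fieldAut_gW, mul_inv_eq_iff_eq_mul] at this
    exact this
  have hg0 : g • oPt F m 0 0 = oPt F m 0 0 := by
    rw [← gW_smul_oInf, ← mul_smul, hgW, mul_smul, hg]
  obtain ⟨l, rfl⟩ := eq_gD_of_fix hg hg0
  have h1 := happ (gT 1 0)
  rw [gD_conj_gT, mul_inv_cancel_right, fieldAut_gT, map_one, mul_one] at h1
  have hl : l = 1 := Units.ext (sq_eq_one (m := m) (gT_inj h1).1)
  subst hl
  apply RingEquiv.ext
  intro x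
  have h2 := happ (gT x 0)
  rw [gD_one, one_mul, inv_one, mul_one, fieldAut_gT] at h2
  exact (gT_inj h2).1.symm

/-- The ring automorphisms of a field with `2 ^ (2m+1)` elements. -/
theorem card_ringAut : Nat.card (F ≃+* F) = 2 * m + 1 := by
  classical
  haveI : Fact (Nat.Prime 2) := ⟨Nat.prime_two⟩
  letI : Algebra (ZMod 2) F := ZMod.algebra F 2
  haveI : Finite F := Finite.of_fintype F
  let e : (F ≃+* F) ≃ (F ≃ₐ[ZMod 2] F) :=
    { toFun := fun σ => AlgEquiv.ofRingEquiv (f := σ) fun x => by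
        exact RingHom.congr_fun (Subsingleton.elim
          (σ.toRingHom.comp (algebraMap (ZMod 2) F)) (algebraMap (ZMod 2) F)) x
      invFun := fun σ => σ.toRingEquiv
      left_inv := fun σ => RingEquiv.ext fun x => rfl
      right_inv := fun σ => AlgEquiv.ext fun x => rfl }
  rw [Nat.card_congr e, IsGalois.card_aut_eq_finrank]
  have h := Module.card_eq_pow_finrank (K := ZMod 2) (V := F)
  rw [ZMod.card, hS.card] at h
  exact (Nat.pow_right_injective (le_refl 2) h).symm

/-- `|Out(Sz(q))| = 2m + 1`. -/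
theorem card_out_sz : Nat.card (Cfsg.Out (Cfsg.Sz F m)) = 2 * m + 1 := by
  rw [← card_ringAut (F := F) (m := m)]
  refine (Nat.card_congr (Equiv.ofBijective
    ((QuotientGroup.mk' (Cfsg.Inn (Cfsg.Sz F m))).comp fieldAutHom) ⟨?_, ?_⟩)).symm
  · rw [injective_iff_map_eq_one]
    intro σ h
    obtain ⟨g, hg⟩ := (QuotientGroup.eq_one_iff _).1 h
    exact fieldAut_inner hg.symm
  · intro x
    obtain ⟨α, rfl⟩ := QuotientGroup.mk'_surjective (Cfsg.Inn (Cfsg.Sz F m)) x
    obtain ⟨g, σ, rfl⟩ := exists_inner_mul_field α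
    refine ⟨σ, ?_⟩
    show QuotientGroup.mk' _ (fieldAut σ) = _
    rw [map_mul, show QuotientGroup.mk' (Cfsg.Inn (Cfsg.Sz F m)) (MulAut.conj g) = 1 from
      (QuotientGroup.eq_one_iff _).2 ⟨g, rfl⟩, one_mul]

omit hS in
/-- Isomorphic groups have outer automorphism groups of the same order. -/
theorem card_out_congr {G H : Type*} [Group G] [Group H] (e : G ≃* H) :
    Nat.card (Cfsg.Out G) = Nat.card (Cfsg.Out H) := by
  refine Nat.card_congr (QuotientGroup.congr (Cfsg.Inn G) (Cfsg.Inn H) (MulAut.congr e) ?_).toEquiv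
  ext α
  constructor
  · rintro ⟨_, ⟨g, rfl⟩, rfl⟩
    refine ⟨e g, ?_⟩
    ext x
    simp [MulAut.congr, MulAut.conj_apply]
  · rintro ⟨h, rfl⟩
    refine ⟨MulAut.conj (e.symm h), ⟨e.symm h, rfl⟩, ?_⟩
    ext x
    simp [MulAut.congr, MulAut.conj_apply]

end Cfsg.Agent.SuzukiAut
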